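import Mathlib

/-!
Global functions on connected proper schemes over algebraically closed fields are constants up to nilpotents;
inverse limits of such rings are local.
-/

set_option autoImplicit false

noncomputable section

universe u

open CategoryTheory CategoryTheory.Limits AlgebraicGeometry

namespace FormalSecLib

/-- A section annihilated by a split polynomial on a connected scheme is a constant up to a nilpotent. -/
theorem exists_isNilpotent_sub_of_prod {k : Type u} [Field k] {Z : Scheme.{u}} [CompactSpace Z] [ConnectedSpace Z]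
    (φ : k →+* Γ(Z, ⊤)) (a : Γ(Z, ⊤)) (s : Multiset k) (hs : (s.map fun c => a - φ c).prod = 0) :
    ∃ c : k, IsNilpotent (a - φ c) := by
  classical
  -- the loci where the difference is invertible
  let U : k → Z.Opens := fun c => Z.basicOpen (a - φ c)
  have hpair : ∀ c c' : k, c ≠ c' → ∀ z : Z, z ∈ U c ∨ z ∈ U c' := by
    intro c c' h z
    show z ∈ Z.basicOpen _ ∨ z ∈ Z.basicOpen _
    rw [Scheme.mem_basicOpen_top, Scheme.mem_basicOpen_top]
    refine IsLocalRing.isUnit_or_isUnit_of_isUnit_add (a := Z.presheaf.Γgerm z (a - φ c))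
      (b := - Z.presheaf.Γgerm z (a - φ c')) ?_ |>.imp id fun h => (IsUnit.neg_iff _).1 h
    rw [← sub_eq_add_neg, ← map_sub]
    refine IsUnit.map _ ?_
    rw [show a - φ c - (a - φ c') = φ (c' - c) by rw [map_sub]; abel]
    exact (isUnit_iff_ne_zero.2 (sub_ne_zero.2 h.symm)).map φ
  have hcov : ∀ z : Z, ∃ c ∈ s.toFinset, z ∉ U c := by
    intro z
    by_contra hne
    push Not at hne
    have hu : IsUnit (Z.presheaf.Γgerm z (s.map fun c => a - φ c).prod) := by
      rw [map_multiset_prod, Multiset.map_map]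
      refine Multiset.prod_induction _ _ (fun _ _ => IsUnit.mul) isUnit_one ?_
      intro b hb
      obtain ⟨c, hc, rfl⟩ := Multiset.mem_map.1 hb
      exact (Scheme.mem_basicOpen_top _ _ _).1 (hne c (Multiset.mem_toFinset.2 hc))
    rw [hs, map_zero] at hu
    exact not_isUnit_zero hu
  obtain ⟨z₀⟩ := (inferInstance : Nonempty Z)
  obtain ⟨c, hc, hz₀⟩ := hcov z₀
  refine ⟨c, ?_⟩
  -- the vanishing locus is open and closed
  have hclop : IsClopen (U c : Set Z)ᶜ := by
    refine ⟨(U c).isOpen.isClosed_compl, ?_⟩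
    have h : (U c : Set Z)ᶜ = ⋂ c' ∈ s.toFinset.erase c, (U c' : Set Z) := by
      ext z
      simp only [Set.mem_compl_iff, SetLike.mem_coe, Set.mem_iInter]
      refine ⟨fun h c' hc' => (hpair c c' (Finset.ne_of_mem_erase hc').symm z).resolve_left h, fun h hz => ?_⟩
      obtain ⟨c', hc', hz'⟩ := hcov z
      by_cases e : c' = c
      · subst e; exact hz' hz
      · exact hz' (h c' (Finset.mem_erase.2 ⟨e, hc'⟩))
    rw [h]
    exact isOpen_biInter_finset fun c' _ => (U c').isOpen
  have huniv := hclop.eq_univ ⟨z₀, hz₀⟩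
  rw [Scheme.isNilpotent_iff_basicOpen_eq_bot_of_isCompact (U := ⊤) CompactSpace.isCompact_univ]
  ext z
  simp only [TopologicalSpace.Opens.coe_bot, Set.mem_empty_iff_false, iff_false, SetLike.mem_coe]
  exact (Set.eq_univ_iff_forall.1 huniv z : z ∈ (U c : Set Z)ᶜ)

/-- Functions on a connected universally closed scheme over an algebraically closed field are constant
up to nilpotents. -/
theorem exists_isNilpotent_sub {k : Type u} [Field k] [IsAlgClosed k] {Z : Scheme.{u}} [ConnectedSpace Z]
    (f : Z ⟶ Spec (CommRingCat.of k)) [UniversallyClosed f] (a : Γ(Z, ⊤)) :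
    ∃ c : k, IsNilpotent (a - f.appTop.hom ((Scheme.ΓSpecIso (CommRingCat.of k)).inv.hom c)) := by
  haveI : CompactSpace Z := QuasiCompact.compactSpace_of_compactSpace f
  let φ : k →+* Γ(Z, ⊤) := ((Scheme.ΓSpecIso (CommRingCat.of k)).inv ≫ f.appTop).hom
  have hint : φ.IsIntegral :=
    RingHom.IsIntegral.trans _ _
      (RingHom.isIntegral_of_surjective _
        (Scheme.ΓSpecIso (CommRingCat.of k)).symm.commRingCatIsoToRingEquiv.surjective)
      (isIntegral_appTop_of_universallyClosed f)
  obtain ⟨P, hP, hPa⟩ := hint a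
  refine exists_isNilpotent_sub_of_prod φ a P.roots ?_
  have h := congrArg (Polynomial.eval₂ φ a) ((IsAlgClosed.splits P).eq_prod_roots_of_monic hP)
  rw [hPa, Polynomial.eval₂_multiset_prod, Multiset.map_map] at h
  simpa using h.symm

/-- An element of a limit of rings which is a unit at every stage is a unit. -/
theorem isUnit_limit {J : Type} [SmallCategory J] (F : J ⥤ CommRingCat.{u}) (a : ↑(limit F))
    (h : ∀ j, IsUnit ((limit.π F j).hom a)) : IsUnit a := by
  have hw : ∀ {i j : J} (f : i ⟶ j), (F.map f).hom ((limit.π F i).hom a) = (limit.π F j).hom a := by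
    intro i j f
    rw [← limit.w F f]
    rfl
  let e := Types.isLimitEquivSections (isLimitOfPreserves (forget CommRingCat.{u}) (limit.isLimit F))
  let v : (F ⋙ forget CommRingCat.{u}).sections := ⟨fun j => ((h j).unit⁻¹ : (F.obj j)ˣ).1, by
    intro i j f
    show (F.map f).hom ((h i).unit⁻¹ : (F.obj i)ˣ).1 = ((h j).unit⁻¹ : (F.obj j)ˣ).1
    have h1 : (F.map f).hom ((h i).unit⁻¹ : (F.obj i)ˣ).1 * (limit.π F j).hom a = 1 := by
      rw [← hw f, ← map_mul, IsUnit.val_inv_mul, map_one]
    exact left_inv_eq_right_inv h1 ((h j).mul_val_inv)⟩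
  obtain ⟨b, hb⟩ : ∃ b : ↑(limit F), b = e.symm v := ⟨e.symm v, rfl⟩
  refine IsUnit.of_mul_eq_one b ?_
  refine Concrete.limit_ext F _ _ fun j => ?_
  show (limit.π F j).hom (a * b) = (limit.π F j).hom 1
  rw [map_mul, map_one, show (limit.π F j).hom b = v.1 j from hb ▸
    Types.isLimitEquivSections_symm_apply (isLimitOfPreserves (forget CommRingCat.{u}) (limit.isLimit F)) v j]
  exact (h j).mul_val_inv

end FormalSecLib

end
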